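import Cfsg.Agent.H103.GT.Coord
import Cfsg.Agent.H779.G2.Stmts3
import Cfsg.Agent.H732.PU.Chain
import Cfsg.Agent.Lib.FrattiniPGroup

/-!
# S5211, [G2-E2b]: `p = 2`, `q ≥ 4`: the only essential subgroup of `Q_b` not contained in `Q_a` is `Q_b` (helper839)

Plan: `outputs/live/tools/plans/S5211.md`, section 8.
-/

set_option autoImplicit false
set_option linter.unusedVariables false

namespace Cfsg.Agent.H839.GT

open Cfsg Cfsg.FusionSystem Cfsg.Agent.H756.PU Cfsg.Agent.H779.G2 Cfsg.Agent.H103.GT

universe u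

section
variable {K : Type u} [Field K]

/-- the `SL₂`-invariant coordinate -/
def ds (x : GU K) : K := x.d + x.a * x.c

/-- the determinant -/
def dt (x y : GU K) : K := x.a * y.c + x.c * y.a

theorem commute_iff (h2 : (2 : K) = 0) {x y : GU K} (hx : x.b = 0) (hy : y.b = 0) :
    x * y = y * x ↔ (ds x + dt x y) * y.a + (ds y + dt x y) * x.a = 0 ∧
      (ds x + dt x y) * y.c + (ds y + dt x y) * x.c = 0 := by
  constructor
  · intro h
    have he := congrArg GU.e h
    have hf := congrArg GU.f h
    simp only [GU.mul_e, GU.mul_f, hx, hy] at he hf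
    unfold ds dt
    constructor
    · linear_combination he + (y.a * x.a * x.c + x.a * y.a * y.c - x.d * y.a - x.c * y.a ^ 2
        + 2 * x.a * y.d + 2 * x.a ^ 2 * y.c) * h2
    · linear_combination hf + (2 * x.c * y.d + x.a * y.c * x.c + x.c * y.a * y.c - x.d * y.c + 2 * y.c ^ 2 * x.a
        + 3 * y.c * x.a * x.c - 3 * x.c * y.a * y.c - x.c ^ 2 * y.a) * h2
  · rintro ⟨h3, h4⟩
    unfold ds dt at h3 h4
    ext
    · simp [add_comm]
    · simp [add_comm]
    · simp only [GU.mul_c, hx, hy]; ring
    · simp only [GU.mul_d, hx, hy]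
      linear_combination (x.c * y.a - y.c * x.a) * h2
    · simp only [GU.mul_e, hx, hy]
      linear_combination h3 - (y.a * x.a * x.c + x.a * y.a * y.c - x.d * y.a - x.c * y.a ^ 2
        + 2 * x.a * y.d + 2 * x.a ^ 2 * y.c) * h2
    · simp only [GU.mul_f, hx, hy]
      linear_combination h4 - (2 * x.c * y.d + x.a * y.c * x.c + x.c * y.a * y.c - x.d * y.c + 2 * y.c ^ 2 * x.a
        + 3 * y.c * x.a * x.c - 3 * x.c * y.a * y.c - x.c ^ 2 * y.a) * h2

theorem sq_eq (h2 : (2 : K) = 0) {x : GU K} (hx : x.b = 0) :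
    x ^ 2 = ⟨0, 0, 0, 0, ds x * x.a, ds x * x.c⟩ := by
  unfold ds
  rw [pow_two]
  ext
  · simp only [GU.mul_a]; linear_combination x.a * h2
  · simp only [GU.mul_b, hx, add_zero]
  · simp only [GU.mul_c, hx]; linear_combination x.c * h2
  · simp only [GU.mul_d, hx]; linear_combination (x.d + x.c * x.a) * h2
  · simp only [GU.mul_e, hx]; linear_combination (x.e + x.d * x.a + x.c * x.a ^ 2) * h2
  · simp only [GU.mul_f, hx]; linear_combination (x.f + x.d * x.c + 3 * x.c ^ 2 * x.a + x.c ^ 2 * x.a) * h2

theorem dt_comm (x y : GU K) : dt x y = dt y x := by unfold dt; ring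

theorem two_of_cancel (h2 : (2 : K) = 0) {a b : K} (h : a + b = 0) : a = b := by
  linear_combination h - b * h2

/-- two commuting elements of `Q_b` -/
theorem cases_of_commute (h2 : (2 : K) = 0) {g y : GU K} (hg : g.b = 0) (hy : y.b = 0) (h : g * y = y * g)
    (hv : y.a ≠ 0 ∨ y.c ≠ 0) :
    (dt g y = 0 ∧ ds g * y.a = ds y * g.a ∧ ds g * y.c = ds y * g.c) ∨ (dt g y = ds y ∧ ds g = ds y) := by
  obtain ⟨h3, h4⟩ := (commute_iff h2 hg hy).1 h
  have h5 : (ds y + dt g y) * dt g y = 0 := by
    have e : (ds y + dt g y) * dt g y = ((ds g + dt g y) * y.a + (ds y + dt g y) * g.a) * y.c +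
        ((ds g + dt g y) * y.c + (ds y + dt g y) * g.c) * y.a - (ds g + dt g y) * y.a * y.c * 2 := by
      unfold dt; ring
    rw [e, h3, h4, h2]; ring
  rcases mul_eq_zero.1 h5 with h6 | h6
  · right
    have h7 : dt g y = ds y := (two_of_cancel h2 h6).symm
    refine ⟨h7, ?_⟩
    rw [h6, zero_mul, add_zero] at h3 h4
    have h8 : ds g + dt g y = 0 := by
      rcases hv with hv | hv
      · exact (mul_eq_zero.1 h3).resolve_right hv
      · exact (mul_eq_zero.1 h4).resolve_right hv
    rw [h7] at h8
    exact two_of_cancel h2 h8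
  · left
    rw [h6, add_zero, add_zero] at h3 h4
    exact ⟨h6, two_of_cancel h2 h3, two_of_cancel h2 h4⟩

theorem ext_ds {x y : GU K} (h1 : x.a = y.a) (h2 : x.b = y.b) (h3 : x.c = y.c) (h4 : ds x = ds y) (h5 : x.e = y.e)
    (h6 : x.f = y.f) : x = y := by
  refine GU.ext h1 h2 h3 ?_ h5 h6
  unfold ds at h4
  rw [h1, h3] at h4
  exact add_right_cancel h4

theorem card_mul_relIndex {G : Type*} [Group G] {H L : Subgroup G} (h : H ≤ L) :
    Nat.card H * H.relIndex L = Nat.card L := by
  rw [← Subgroup.relIndex_bot_left, ← Subgroup.relIndex_bot_left]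
  exact Subgroup.relIndex_mul_relIndex ⊥ H L bot_le h

/-- `Z(E)` is invariant -/
theorem inv_center {Ω : Type*} [Group Ω] {E : Subgroup Ω} (Γ : Subgroup (MulAut E)) :
    Inv Γ (E ⊓ Subgroup.centralizer (E : Set Ω)) := by
  refine ⟨inf_le_left, ?_⟩
  intro γ _ e he
  refine Subgroup.mem_inf.mpr ⟨(γ e).2, Subgroup.mem_centralizer_iff.mpr ?_⟩
  intro y hy
  have h1 := (Subgroup.mem_centralizer_iff.mp he.2) (γ⁻¹ ⟨y, hy⟩ : E) (γ⁻¹ ⟨y, hy⟩ : E).2
  have h2 : (γ⁻¹ ⟨y, hy⟩ : E) * e = e * (γ⁻¹ ⟨y, hy⟩ : E) := Subtype.ext h1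
  have h3 := congrArg γ h2
  rw [map_mul, map_mul] at h3
  have h4 : γ (γ⁻¹ ⟨y, hy⟩ : E) = ⟨y, hy⟩ := by
    change (γ * γ⁻¹) _ = _
    simp
  rw [h4] at h3
  exact congrArg Subtype.val h3

/-- **(E2b)** -/
theorem stE2b_of (hB : StBound'.{u}) : StE2b.{u} := by
  intro K _ n H hn E Γ hE hEb hEa
  classical
  have hKfin : Finite K := H.fin
  have hp : Fact (Nat.Prime 2) := ⟨Nat.prime_two⟩
  have hch : CharP K 2 := H.char
  have h2 : (2 : K) = 0 := CharTwo.two_eq_zero
  have hfin : Finite (GU K) := inferInstance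
  set q := Nat.card K with hq
  have hq4 : 4 ≤ q := by
    rw [hq, H.card]
    calc 4 = 2 ^ 2 := rfl
      _ ≤ 2 ^ n := Nat.pow_le_pow_right (by omega) hn
  have hbE : ∀ g ∈ E, g.b = 0 := fun g hg => hEb hg
  have hEp : IsPGroup 2 E := hE.pgr.to_le hE.E_le
  -- the centre
  set Z := E ⊓ Subgroup.centralizer (E : Set (GU K)) with hZ
  have hZE : Z ≤ E := inf_le_left
  have hZ2E : Z2 K ≤ E := fun z hz => hE.cent z trivial fun e he => (comm_Qb_Z2 (hEb he) hz).symm
  have hZ2Z : Z2 K ≤ Z := fun z hz => Subgroup.mem_inf.mpr ⟨hZ2E hz,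
    Subgroup.mem_centralizer_iff.mpr fun y hy => comm_Qb_Z2 (hEb hy) hz⟩
  have hcomm2 : ∀ x y : GU K, x.b = 0 → y.b = 0 → x * y * x⁻¹ * y⁻¹ ∈ Z2 K := by
    intro x y hx hy
    refine ⟨cm_a x y, cm_b x y, ?_, ?_⟩
    · rw [cm_c, hx, hy]; ring
    · rw [cm_d, hx, hy]
      linear_combination (-x.a * y.c + x.c * y.a) * h2
  have hinv : Inv Γ Z := inv_center Γ
  have hX : Qb K ⊓ Subgroup.centralizer (Z : Set (GU K)) ≤ E := by
    have hc : Com (Qb K ⊓ Subgroup.centralizer (Z : Set (GU K))) Z Z := by
      intro x hx z hz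
      have := (Subgroup.mem_centralizer_iff.mp hx.2) z hz
      rw [show x * z * x⁻¹ * z⁻¹ = 1 by rw [← this]; group]
      exact one_mem _
    refine Cfsg.Agent.H732.PU.stChain hE Z Z Z hinv hinv hinv le_rfl le_rfl _ le_top ?_ hc hc ?_
    · intro x hx e he
      exact hZ2Z (hcomm2 x e hx.1 (hbE e he))
    · intro x hx z hz
      exact ((Subgroup.mem_centralizer_iff.mp hx.2) z hz).symm
  have hmem : ∀ x : GU K, x.b = 0 → (∀ z ∈ Z, x * z = z * x) → x ∈ E := by
    intro x hx h
    apply hX
    exact Subgroup.mem_inf.mpr ⟨hx, Subgroup.mem_centralizer_iff.mpr fun z hz => (h z hz).symm⟩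
  have hcomm : ∀ x ∈ E, ∀ z ∈ Z, x * z = z * x := fun x hx z hz =>
    (Subgroup.mem_centralizer_iff.mp hz.2) x hx
  have hnorm : Qb K ≤ normalizerIn ⊤ E := by
    intro x hx
    refine Subgroup.mem_inf.mpr ⟨trivial, Subgroup.mem_normalizer_iff.mpr ?_⟩
    intro y
    have key : ∀ x ∈ Qb K, ∀ y ∈ E, x * y * x⁻¹ ∈ E := by
      intro x hx y hy
      have h1 := mul_mem (hZ2E (hcomm2 x y hx (hbE y hy))) hy
      rwa [show x * y * x⁻¹ * y⁻¹ * y = x * y * x⁻¹ by group] at h1
    constructor
    · intro hy
      exact key x hx y hy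
    · intro hy
      have := key x⁻¹ (inv_mem hx) _ hy
      rwa [show x⁻¹ * (x * y * x⁻¹) * x⁻¹⁻¹ = y by group] at this
  -- the bound
  have hr1 : E.relIndex (Qb K) * Nat.card E = q ^ 5 := by
    rw [mul_comm, card_mul_relIndex hEb, card_Qb]
  have hr2 : (E.relIndex (Qb K)) ^ 2 ≤ (frattini E).index := by
    refine le_trans (Nat.pow_le_pow_left ?_ 2) (hB hE)
    exact Subgroup.relIndex_le_of_le_right hnorm (Subgroup.index_ne_zero_of_finite)
  have hr3 : Nat.card (frattini E) * (frattini E).index = Nat.card E := Subgroup.card_mul_index _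
  have hr4 : (E.relIndex (Qb K)) ^ 2 ≤ Nat.card E := by
    refine hr2.trans ?_
    rw [← hr3]
    exact Nat.le_mul_of_pos_left _ Nat.card_pos
  have hbig : q ^ 10 ≤ Nat.card E ^ 3 := by
    calc q ^ 10 = (q ^ 5) ^ 2 := by ring
      _ = (E.relIndex (Qb K)) ^ 2 * Nat.card E ^ 2 := by rw [← hr1]; ring
      _ ≤ Nat.card E * Nat.card E ^ 2 := Nat.mul_le_mul_right _ hr4
      _ = Nat.card E ^ 3 := by ring
  by_contra hne
  obtain ⟨g1, hg1, hg1a⟩ : ∃ g ∈ E, g.a ≠ 0 := by
    by_contra hcon
    push Not at hcon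
    exact hEa fun g hg => hcon g hg
  -- the elements of the centre
  have hv : ∀ y ∈ Z, y ∉ Z2 K → y.a ≠ 0 ∨ y.c ≠ 0 := by
    intro y hy hy2
    by_contra hcon
    push Not at hcon
    obtain ⟨ha, hc⟩ := hcon
    have hd : y.d ≠ 0 := fun hd => hy2 ⟨ha, hbE y (hZE hy), hc, hd⟩
    have h3 := ((commute_iff h2 (hbE g1 hg1) (hbE y (hZE hy))).1 (hcomm g1 hg1 y hy)).1
    unfold ds dt at h3
    rw [ha, hc] at h3
    simp only [mul_zero, add_zero, zero_add] at h3
    rcases mul_eq_zero.1 h3 with h4 | h4
    · exact hd h4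
    · exact hg1a h4
  have hone : ∀ y ∈ Z, y ∉ Z2 K → ∃ g ∈ E, dt g y ≠ 0 := by
    intro y hy hy2
    by_contra hcon
    push Not at hcon
    -- then `|E| ≤ q ^ 3`
    have hyb := hbE y (hZE hy)
    have hvy := hv y hy hy2
    have hcase : ∀ g ∈ E, ds g * y.a = ds y * g.a ∧ ds g * y.c = ds y * g.c := by
      intro g hg
      rcases cases_of_commute h2 (hbE g hg) hyb (hcomm g hg y hy) hvy with h3 | ⟨h3, h4⟩
      · exact h3.2
      · rw [hcon g hg] at h3
        rw [h4, ← h3]
        simp
    have hya : y.a ≠ 0 := by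
      intro h0
      have h3 := hcon g1 hg1
      unfold dt at h3
      rw [h0, mul_zero, add_zero] at h3
      rcases mul_eq_zero.1 h3 with h4 | h4
      · exact hg1a h4
      · rcases hvy with h5 | h5
        · exact h5 h0
        · exact h5 h4
    have hinj : Function.Injective (fun x : E => ((x : GU K).a, (x : GU K).e, (x : GU K).f)) := by
      intro x z hxz
      simp only [Prod.mk.injEq] at hxz
      obtain ⟨e1, e2, e3⟩ := hxz
      have k1 := hcon x x.2
      have k2 := hcon z z.2
      unfold dt at k1 k2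
      rw [e1] at k1
      have k3 : (x : GU K).c = (z : GU K).c := by
        apply mul_right_cancel₀ hya
        linear_combination k1 - k2
      have k4 : ds (x : GU K) = ds (z : GU K) := by
        apply mul_right_cancel₀ hya
        rw [(hcase x x.2).1, (hcase z z.2).1, e1]
      exact Subtype.ext (ext_ds e1 ((hbE x x.2).trans (hbE z z.2).symm) k3 k4 e2 e3)
    have hcard : Nat.card E ≤ q ^ 3 := by
      calc Nat.card E ≤ Nat.card (K × K × K) := Nat.card_le_card_of_injective _ hinj
        _ = q ^ 3 := by rw [Nat.card_prod, Nat.card_prod]; ring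
    have h3 : q ^ 10 ≤ q ^ 9 := by
      calc q ^ 10 ≤ Nat.card E ^ 3 := hbig
        _ ≤ (q ^ 3) ^ 3 := Nat.pow_le_pow_left hcard 3
        _ = q ^ 9 := by ring
    exact absurd h3 (not_le.mpr (Nat.pow_lt_pow_right (by omega) (by norm_num)))
  -- an element of the centre outside `Z₂`
  obtain ⟨y, hy, hy2⟩ : ∃ y ∈ Z, y ∉ Z2 K := by
    by_contra hcon
    push Not at hcon
    exact hne (le_antisymm hEb fun x hx => hmem x hx fun z hz => comm_Qb_Z2 hx (hcon z hz))
  have hyb := hbE y (hZE hy)
  have hvy := hv y hy hy2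
  obtain ⟨g0, hg0, hg0d⟩ := hone y hy hy2
  have hca : ∀ g ∈ E, (dt g y = 0 ∧ ds g * y.a = ds y * g.a ∧ ds g * y.c = ds y * g.c) ∨
      (dt g y = ds y ∧ ds g = ds y) := fun g hg =>
    cases_of_commute h2 (hbE g hg) hyb (hcomm g hg y hy) hvy
  have hg0' : dt g0 y = ds y ∧ ds g0 = ds y := (hca g0 hg0).resolve_left fun h => hg0d h.1
  have hδ : ds y ≠ 0 := by rw [← hg0'.1]; exact hg0d
  by_cases hz : ∃ z ∈ Z, dt z y ≠ 0
  · -- `|E| ≤ 4 q ^ 2`
    obtain ⟨z, hzZ, hzd⟩ := hz
    have hz' : dt z y = ds y ∧ ds z = ds y := (hca z (hZE hzZ)).resolve_left fun h => hzd h.1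
    have hz2 : z ∉ Z2 K := by
      rintro ⟨k1, -, k3, -⟩
      apply hzd
      unfold dt
      rw [k1, k3]; ring
    have hvz := hv z hzZ hz2
    have hcz : ∀ g ∈ E, (dt g z = 0 ∧ ds g * z.a = ds z * g.a ∧ ds g * z.c = ds z * g.c) ∨
        (dt g z = ds z ∧ ds g = ds z) := fun g hg =>
      cases_of_commute h2 (hbE g hg) (hbE z (hZE hzZ)) (hcomm g hg z hzZ) hvz
    -- `v_g` from the two determinants
    have hva : ∀ g : GU K, g.a * ds y = dt g y * z.a + dt g z * y.a := by
      intro g
      rw [← hz'.1]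
      unfold dt
      linear_combination (-(g.c * y.a * z.a)) * h2
    have hvc : ∀ g : GU K, g.c * ds y = dt g y * z.c + dt g z * y.c := by
      intro g
      rw [← hz'.1]
      unfold dt
      linear_combination (-(g.a * y.c * z.c)) * h2
    have hinj : Function.Injective (fun x : E => (decide (dt (x : GU K) y = 0), decide (dt (x : GU K) z = 0),
        (x : GU K).e, (x : GU K).f)) := by
      intro x w hxw
      simp only [Prod.mk.injEq, decide_eq_decide] at hxw
      obtain ⟨e0, e1, e2, e3⟩ := hxw
      have k1 : dt (x : GU K) y = dt (w : GU K) y := by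
        rcases hca x x.2 with h3 | h3
        · rw [h3.1, e0.1 h3.1]
        · rcases hca w w.2 with h4 | h4
          · rw [h4.1, e0.2 h4.1]
          · rw [h3.1, h4.1]
      have k2 : dt (x : GU K) z = dt (w : GU K) z := by
        rcases hcz x x.2 with h3 | h3
        · rw [h3.1, e1.1 h3.1]
        · rcases hcz w w.2 with h4 | h4
          · rw [h4.1, e1.2 h4.1]
          · rw [h3.1, h4.1]
      have k3 : (x : GU K).a = (w : GU K).a := by
        apply mul_right_cancel₀ hδ
        rw [hva, hva, k1, k2]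
      have k4 : (x : GU K).c = (w : GU K).c := by
        apply mul_right_cancel₀ hδ
        rw [hvc, hvc, k1, k2]
      have k5 : ds (x : GU K) = ds (w : GU K) := by
        rcases hca x x.2 with h3 | h3
        · rcases hca w w.2 with h4 | h4
          · rcases hvy with h5 | h5
            · apply mul_right_cancel₀ h5
              rw [h3.2.1, h4.2.1, k3]
            · apply mul_right_cancel₀ h5
              rw [h3.2.2, h4.2.2, k4]
          · exact absurd ((k1.symm.trans h3.1).symm.trans h4.1).symm hδ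
        · rcases hca w w.2 with h4 | h4
          · exact absurd ((k1.trans h4.1).symm.trans h3.1).symm hδ
          · rw [h3.2, h4.2]
      exact Subtype.ext (ext_ds k3 ((hbE x x.2).trans (hbE w w.2).symm) k4 k5 e2 e3)
    have hcard : Nat.card E ≤ 4 * q ^ 2 := by
      calc Nat.card E ≤ Nat.card (Bool × Bool × K × K) := Nat.card_le_card_of_injective _ hinj
        _ = 4 * q ^ 2 := by
          rw [Nat.card_prod, Nat.card_prod, Nat.card_prod, Nat.card_eq_fintype_card (α := Bool), Fintype.card_bool]
          ring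
    have h3 : q ^ 10 ≤ 64 * q ^ 6 := by
      calc q ^ 10 ≤ Nat.card E ^ 3 := hbig
        _ ≤ (4 * q ^ 2) ^ 3 := Nat.pow_le_pow_left hcard 3
        _ = 64 * q ^ 6 := by ring
    have h4 : q ^ 4 ≤ 64 := by
      have h5 : q ^ 6 * q ^ 4 ≤ q ^ 6 * 64 := by
        calc q ^ 6 * q ^ 4 = q ^ 10 := by ring
          _ ≤ 64 * q ^ 6 := h3
          _ = q ^ 6 * 64 := by ring
      exact Nat.le_of_mul_le_mul_left h5 (by positivity)
    have h5 : 4 ^ 4 ≤ q ^ 4 := Nat.pow_le_pow_left hq4 4
    omega
  · -- `Z = ⟨y⟩ Z₂`, `|E| ≤ 2 q ^ 3`, `|Φ(E)| ≥ 2 q`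
    push Not at hz
    have hzy : ∀ z ∈ Z, z ∉ Z2 K → ds z = ds y ∧ z.a = y.a ∧ z.c = y.c := by
      intro z hzZ hz2
      have hd0 := hz z hzZ
      have hcz := (hca z (hZE hzZ)).resolve_right fun h => hδ (by rw [← h.1]; exact hd0)
      have hvz := hv z hzZ hz2
      have hg := cases_of_commute h2 (hbE g0 hg0) (hbE z (hZE hzZ)) (hcomm g0 hg0 z hzZ) hvz
      -- `ds y * dt g0 z = ds z * ds y`
      have e1 : ds y * dt g0 z = ds z * ds y := by
        have e2 : ds y * dt g0 z = g0.a * (ds y * z.c) + g0.c * (ds y * z.a) := by unfold dt; ring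
        rw [e2, ← hcz.2.1, ← hcz.2.2]
        have e3 : g0.a * (ds z * y.c) + g0.c * (ds z * y.a) = ds z * dt g0 y := by unfold dt; ring
        rw [e3, hg0'.1]
      have e4 : dt g0 z = ds z := by
        apply mul_left_cancel₀ hδ
        rw [e1, mul_comm]
      have hdz : ds z ≠ 0 := by
        intro h0
        rcases hvz with h5 | h5
        · have := hcz.2.1
          rw [h0, zero_mul] at this
          exact h5 ((mul_eq_zero.1 this.symm).resolve_left hδ)
        · have := hcz.2.2
          rw [h0, zero_mul] at this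
          exact h5 ((mul_eq_zero.1 this.symm).resolve_left hδ)
      have e5 : ds g0 = ds z := (hg.resolve_left fun h => hdz (by rw [← e4]; exact h.1)).2
      have e6 : ds z = ds y := e5.symm.trans hg0'.2
      refine ⟨e6, ?_, ?_⟩
      · have := hcz.2.1
        rw [e6] at this
        exact (mul_left_cancel₀ hδ this).symm
      · have := hcz.2.2
        rw [e6] at this
        exact (mul_left_cancel₀ hδ this).symm
    -- the elements `λ y`
    let w : K → GU K := fun l => ⟨l * y.a, 0, l * y.c, l * ds y + l * y.a * (l * y.c), 0, 0⟩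
    have hwds : ∀ l, ds (w l) = l * ds y := by
      intro l
      show l * ds y + l * y.a * (l * y.c) + l * y.a * (l * y.c) = l * ds y
      linear_combination (l * y.a * (l * y.c)) * h2
    have hwE : ∀ l, w l ∈ E := by
      intro l
      refine hmem _ rfl fun z hzZ => ?_
      by_cases hz2 : z ∈ Z2 K
      · exact comm_Qb_Z2 (show (w l) ∈ Qb K from rfl) hz2
      · obtain ⟨e1, e2, e3⟩ := hzy z hzZ hz2
        refine (commute_iff h2 rfl (hbE z (hZE hzZ))).2 ?_
        have e4 : dt (w l) z = 0 := by
          unfold dt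
          rw [e2, e3]
          show l * y.a * y.c + l * y.c * y.a = 0
          linear_combination (l * y.a * y.c) * h2
        rw [e4, hwds, e1, e2, e3]
        constructor
        · show (l * ds y + 0) * y.a + (ds y + 0) * (l * y.a) = 0
          linear_combination (l * ds y * y.a) * h2
        · show (l * ds y + 0) * y.c + (ds y + 0) * (l * y.c) = 0
          linear_combination (l * ds y * y.c) * h2
    -- the order of the Frattini subgroup
    have hF : ∀ x ∈ E, (⟨0, 0, 0, 0, ds x * x.a, ds x * x.c⟩ : GU K) ∈ (frattini E).map E.subtype := by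
      intro x hx
      refine ⟨(⟨x, hx⟩ : E) ^ 2, Cfsg.Agent.Lib.FrattiniPGroup.pow_mem_frattini hEp _, ?_⟩
      show x ^ 2 = _
      exact sq_eq h2 (hbE x hx)
    have hsq : ∀ m : K, ∃ l : K, l * l = m := by
      have hinj : Function.Injective (fun l : K => l * l) := by
        intro a b hab
        have hab' : a * a = b * b := hab
        have h3 : (a + b) * (a + b) = 0 := by linear_combination hab' + (b * b + a * b) * h2
        have h4 := mul_self_eq_zero.1 h3
        exact two_of_cancel h2 h4
      exact fun m => (Finite.injective_iff_surjective.1 hinj) m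
    have hF1 : ∀ m : K, (⟨0, 0, 0, 0, m * y.a, m * y.c⟩ : GU K) ∈ (frattini E).map E.subtype := by
      intro m
      obtain ⟨l, hl⟩ := hsq (m / ds y)
      have h3 := hF _ (hwE l)
      have e1 : ds (w l) * (w l).a = m * y.a := by
        rw [hwds]
        show l * ds y * (l * y.a) = m * y.a
        calc l * ds y * (l * y.a) = (l * l) * ds y * y.a := by ring
          _ = m * y.a := by rw [hl, div_mul_cancel₀ _ hδ]
      have e2 : ds (w l) * (w l).c = m * y.c := by
        rw [hwds]
        show l * ds y * (l * y.c) = m * y.c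
        calc l * ds y * (l * y.c) = (l * l) * ds y * y.c := by ring
          _ = m * y.c := by rw [hl, div_mul_cancel₀ _ hδ]
      rw [e1, e2] at h3
      exact h3
    have hF2 : (⟨0, 0, 0, 0, ds y * g0.a, ds y * g0.c⟩ : GU K) ∈ (frattini E).map E.subtype := by
      have h3 := hF g0 hg0
      rwa [hg0'.2] at h3
    have hadd : ∀ s t s' t' : K, (⟨0, 0, 0, 0, s, t⟩ : GU K) * ⟨0, 0, 0, 0, s', t'⟩ = ⟨0, 0, 0, 0, s + s', t + t'⟩ := by
      intro s t s' t'
      ext <;> simp
    let φ : K × Bool → ↥((frattini E).map E.subtype) := fun x =>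
      ⟨⟨0, 0, 0, 0, x.1 * y.a + (if x.2 then ds y * g0.a else 0), x.1 * y.c + (if x.2 then ds y * g0.c else 0)⟩, by
        rcases x with ⟨m, b⟩
        cases b
        · simpa using hF1 m
        · have := mul_mem (hF1 m) hF2
          rw [hadd] at this
          simpa using this⟩
    have hφ : Function.Injective φ := by
      rintro ⟨m, b⟩ ⟨m', b'⟩ hxx
      have e0 := congrArg Subtype.val hxx
      have e1 : m * y.a + (if b then ds y * g0.a else 0) = m' * y.a + (if b' then ds y * g0.a else 0) :=
        congrArg GU.e e0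
      have e2 : m * y.c + (if b then ds y * g0.c else 0) = m' * y.c + (if b' then ds y * g0.c else 0) :=
        congrArg GU.f e0
      have hbb : b = b' := by
        by_contra hbb
        have key : ∀ s : K, s * y.a = ds y * g0.a → s * y.c = ds y * g0.c → False := by
          intro s k1 k2
          have k3 : ds y * dt g0 y = 0 := by
            unfold dt
            linear_combination (-y.c) * k1 + y.a * (-k2) + (ds y * 0 + s * y.a * y.c) * h2 + 0 * h2
          exact hδ (by
            have := (mul_eq_zero.1 k3).resolve_left hδ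
            rw [hg0'.1] at this
            exact this)
        cases b <;> cases b'
        · exact hbb rfl
        · simp only [Bool.false_eq_true, if_false, if_true, add_zero] at e1 e2
          refine key (m - m') ?_ ?_
          · linear_combination e1
          · linear_combination e2
        · simp only [Bool.false_eq_true, if_false, if_true, add_zero] at e1 e2
          refine key (m' - m) ?_ ?_
          · linear_combination -e1
          · linear_combination -e2
        · exact hbb rfl
      subst hbb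
      have k1 : m * y.a = m' * y.a := add_right_cancel e1
      have k2 : m * y.c = m' * y.c := add_right_cancel e2
      have k3 : m = m' := by
        rcases hvy with h5 | h5
        · exact mul_right_cancel₀ h5 k1
        · exact mul_right_cancel₀ h5 k2
      rw [k3]
    have hFc : 2 * q ≤ Nat.card (frattini E) := by
      have h3 : Nat.card ↥((frattini E).map E.subtype) = Nat.card (frattini E) :=
        (Nat.card_congr ((frattini E).equivMapOfInjective E.subtype E.subtype_injective).toEquiv).symm
      rw [← h3]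
      calc 2 * q = Nat.card (K × Bool) := by
            rw [Nat.card_prod, Nat.card_eq_fintype_card (α := Bool), Fintype.card_bool]; ring
        _ ≤ _ := Nat.card_le_card_of_injective φ hφ
    -- the order of `E`
    have hcard : Nat.card E ≤ 2 * q ^ 3 := by
      have hdet : ∀ x ∈ E, ∀ w ∈ E, (dt x y = 0 ↔ dt w y = 0) → dt x y = dt w y := by
        intro x hx w hw e0
        rcases hca x hx with h3 | h3
        · rw [h3.1, e0.1 h3.1]
        · rcases hca w hw with h4 | h4
          · rw [h4.1, e0.2 h4.1]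
          · rw [h3.1, h4.1]
      have hdds : ∀ x ∈ E, ∀ w ∈ E, dt x y = dt w y → x.a = w.a → x.c = w.c → ds x = ds w := by
        intro x hx w hw k1 k3 k4
        rcases hca x hx with h3 | h3
        · rcases hca w hw with h4 | h4
          · rcases hvy with h5 | h5
            · apply mul_right_cancel₀ h5
              rw [h3.2.1, h4.2.1, k3]
            · apply mul_right_cancel₀ h5
              rw [h3.2.2, h4.2.2, k4]
          · exact absurd ((k1.symm.trans h3.1).symm.trans h4.1).symm hδ
        · rcases hca w hw with h4 | h4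
          · exact absurd ((k1.trans h4.1).symm.trans h3.1).symm hδ
          · rw [h3.2, h4.2]
      have hcd : Nat.card (Bool × K × K × K) = 2 * q ^ 3 := by
        rw [Nat.card_prod, Nat.card_prod, Nat.card_prod, Nat.card_eq_fintype_card (α := Bool), Fintype.card_bool]
        ring
      rw [← hcd]
      rcases hvy with h5 | h5
      · refine Nat.card_le_card_of_injective (fun x : E => (decide (dt (x : GU K) y = 0), (x : GU K).a,
          (x : GU K).e, (x : GU K).f)) ?_
        intro x w hxw
        simp only [Prod.mk.injEq, decide_eq_decide] at hxw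
        obtain ⟨e0, e1, e2, e3⟩ := hxw
        have k1 := hdet x x.2 w w.2 e0
        have k4 : (x : GU K).c = (w : GU K).c := by
          apply mul_right_cancel₀ h5
          have k2 := k1
          unfold dt at k2
          rw [e1] at k2
          exact add_left_cancel k2
        exact Subtype.ext (ext_ds e1 ((hbE x x.2).trans (hbE w w.2).symm) k4 (hdds x x.2 w w.2 k1 e1 k4) e2 e3)
      · refine Nat.card_le_card_of_injective (fun x : E => (decide (dt (x : GU K) y = 0), (x : GU K).c,
          (x : GU K).e, (x : GU K).f)) ?_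
        intro x w hxw
        simp only [Prod.mk.injEq, decide_eq_decide] at hxw
        obtain ⟨e0, e1, e2, e3⟩ := hxw
        have k1 := hdet x x.2 w w.2 e0
        have k4 : (x : GU K).a = (w : GU K).a := by
          apply mul_right_cancel₀ h5
          have k2 := k1
          unfold dt at k2
          rw [e1] at k2
          exact add_right_cancel k2
        exact Subtype.ext (ext_ds k4 ((hbE x x.2).trans (hbE w w.2).symm) e1 (hdds x x.2 w w.2 k1 k4 e1) e2 e3)
    -- the contradiction
    set r := E.relIndex (Qb K) with hr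
    have h3 : q ^ 2 ≤ 2 * r := by
      have h4 : q ^ 3 * q ^ 2 ≤ q ^ 3 * (2 * r) := by
        calc q ^ 3 * q ^ 2 = q ^ 5 := by ring
          _ = r * Nat.card E := hr1.symm
          _ ≤ r * (2 * q ^ 3) := Nat.mul_le_mul_left _ hcard
          _ = q ^ 3 * (2 * r) := by ring
      exact Nat.le_of_mul_le_mul_left h4 (by positivity)
    have h4 : (frattini E).index ≤ q ^ 2 := by
      have h5 : (2 * q) * (frattini E).index ≤ (2 * q) * q ^ 2 := by
        calc (2 * q) * (frattini E).index ≤ Nat.card (frattini E) * (frattini E).index := Nat.mul_le_mul_right _ hFc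
          _ = Nat.card E := hr3
          _ ≤ 2 * q ^ 3 := hcard
          _ = (2 * q) * q ^ 2 := by ring
      exact Nat.le_of_mul_le_mul_left h5 (by positivity)
    have h5 : r ^ 2 ≤ q ^ 2 := hr2.trans h4
    have h6 : r ≤ q := (Nat.pow_le_pow_iff_left two_ne_zero).1 h5
    nlinarith

end

end Cfsg.Agent.H839.GT
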