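import Cfsg.Agent.H839.GT.ETwoB

/-!
# S5211, [G2-Q2-E], part `E ≤ Q_b`: `q = 2`: the only essential subgroup of `Q_b` not contained in `Q_a` is `Q_b` (helper839)

Plan: `outputs/live/tools/plans/S5211.md`, section 12.
-/

set_option autoImplicit false
set_option linter.unusedVariables false

namespace Cfsg.Agent.H839.GT

open Cfsg Cfsg.FusionSystem Cfsg.Agent.H756.PU Cfsg.Agent.H779.G2 Cfsg.Agent.H103.GT

universe u

section
variable {K : Type u} [Field K]

theorem zero_or_one (h : Nat.card K = 2) (k : K) : k = 0 ∨ k = 1 := by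
  by_contra hcon
  push Not at hcon
  have hf : Finite K := Nat.finite_of_card_ne_zero (by rw [h]; norm_num)
  have h3 : Function.Injective ![(0 : K), 1, k] := by
    intro i j hij
    fin_cases i <;> fin_cases j <;> simp_all
  have h4 := Nat.card_le_card_of_injective _ h3
  rw [h, Nat.card_eq_fintype_card, Fintype.card_fin] at h4
  omega

/-- **(E21, part b)** -/
theorem stE21_b (hB : StBound'.{u}) (H : HypG K 2 1) {E : Subgroup (GU K)} {Γ : Subgroup (MulAut E)}
    (hE : Ess (⊤ : Subgroup (GU K)) E 2 Γ) (hEb : E ≤ Qb K) (hEa : ¬ E ≤ Qa K) : E = Qb K := by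
  classical
  have hKfin : Finite K := H.fin
  have hp : Fact (Nat.Prime 2) := ⟨Nat.prime_two⟩
  have hch : CharP K 2 := H.char
  have h2 : (2 : K) = 0 := CharTwo.two_eq_zero
  have hfin : Finite (GU K) := inferInstance
  have hq : Nat.card K = 2 := by rw [H.card]; norm_num
  have h01 := zero_or_one hq
  have hbE : ∀ g ∈ E, g.b = 0 := fun g hg => hEb hg
  have hEp : IsPGroup 2 E := hE.pgr.to_le hE.E_le
  -- the centre
  set Z := E ⊓ Subgroup.centralizer (E : Set (GU K)) with hZ
  have hZE : Z ≤ E := inf_le_left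
  have hZ2E : Z2 K ≤ E := fun z hz => hE.cent z trivial fun e he => (comm_Qb_Z2 (hEb he) hz).symm
  have hZ2Z : Z2 K ≤ Z := fun z hz => Subgroup.mem_inf.mpr ⟨hZ2E hz,
    Subgroup.mem_centralizer_iff.mpr fun y hy => comm_Qb_Z2 (hEb hy) hz⟩
  have hcomm2 : ∀ x y : GU K, x.b = 0 → y.b = 0 → x * y * x⁻¹ * y⁻¹ ∈ Z2 K := by
    intro x y hx hy
    refine ⟨cm_a x y, cm_b x y, ?_, ?_⟩
    · rw [cm_c, hx, hy]; ring
    · rw [cm_d, hx, hy]
      linear_combination (-x.a * y.c + x.c * y.a) * h2
  have hinv : Inv Γ Z := inv_center Γ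
  have hX : Qb K ⊓ Subgroup.centralizer (Z : Set (GU K)) ≤ E := by
    have hc : Com (Qb K ⊓ Subgroup.centralizer (Z : Set (GU K))) Z Z := by
      intro x hx z hz
      have := (Subgroup.mem_centralizer_iff.mp hx.2) z hz
      rw [show x * z * x⁻¹ * z⁻¹ = 1 by rw [← this]; group]
      exact one_mem _
    refine Cfsg.Agent.H732.PU.stChain hE Z Z Z hinv hinv hinv le_rfl le_rfl _ le_top ?_ hc hc ?_
    · intro x hx e he
      exact hZ2Z (hcomm2 x e hx.1 (hbE e he))
    · intro x hx z hz
      exact ((Subgroup.mem_centralizer_iff.mp hx.2) z hz).symm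
  have hmem : ∀ x : GU K, x.b = 0 → (∀ z ∈ Z, x * z = z * x) → x ∈ E := by
    intro x hx h
    apply hX
    exact Subgroup.mem_inf.mpr ⟨hx, Subgroup.mem_centralizer_iff.mpr fun z hz => (h z hz).symm⟩
  have hcomm : ∀ x ∈ E, ∀ z ∈ Z, x * z = z * x := fun x hx z hz =>
    (Subgroup.mem_centralizer_iff.mp hz.2) x hx
  have hnorm : Qb K ≤ normalizerIn ⊤ E := by
    intro x hx
    refine Subgroup.mem_inf.mpr ⟨trivial, Subgroup.mem_normalizer_iff.mpr ?_⟩
    intro y
    have key : ∀ x ∈ Qb K, ∀ y ∈ E, x * y * x⁻¹ ∈ E := by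
      intro x hx y hy
      have h1 := mul_mem (hZ2E (hcomm2 x y hx (hbE y hy))) hy
      rwa [show x * y * x⁻¹ * y⁻¹ * y = x * y * x⁻¹ by group] at h1
    constructor
    · intro hy
      exact key x hx y hy
    · intro hy
      have := key x⁻¹ (inv_mem hx) _ hy
      rwa [show x⁻¹ * (x * y * x⁻¹) * x⁻¹⁻¹ = y by group] at this
  have hr3 : Nat.card (frattini E) * (frattini E).index = Nat.card E := Subgroup.card_mul_index _
  by_contra hne
  obtain ⟨g1, hg1, hg1a⟩ : ∃ g ∈ E, g.a ≠ 0 := by
    by_contra hcon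
    push Not at hcon
    exact hEa fun g hg => hcon g hg
  -- the elements of the centre
  have hv : ∀ y ∈ Z, y ∉ Z2 K → y.a ≠ 0 ∨ y.c ≠ 0 := by
    intro y hy hy2
    by_contra hcon
    push Not at hcon
    obtain ⟨ha, hc⟩ := hcon
    have hd : y.d ≠ 0 := fun hd => hy2 ⟨ha, hbE y (hZE hy), hc, hd⟩
    have h3 := ((commute_iff h2 (hbE g1 hg1) (hbE y (hZE hy))).1 (hcomm g1 hg1 y hy)).1
    unfold ds dt at h3
    rw [ha, hc] at h3
    simp only [mul_zero, add_zero, zero_add] at h3
    rcases mul_eq_zero.1 h3 with h4 | h4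
    · exact hd h4
    · exact hg1a h4
  have hone : ∀ y ∈ Z, y ∉ Z2 K → ∃ g ∈ E, dt g y ≠ 0 := by
    intro y hy hy2
    by_contra hcon
    push Not at hcon
    -- then `|E| ≤ 8`
    have hyb := hbE y (hZE hy)
    have hvy := hv y hy hy2
    have hcase : ∀ g ∈ E, ds g * y.a = ds y * g.a ∧ ds g * y.c = ds y * g.c := by
      intro g hg
      rcases cases_of_commute h2 (hbE g hg) hyb (hcomm g hg y hy) hvy with h3 | ⟨h3, h4⟩
      · exact h3.2
      · rw [hcon g hg] at h3
        rw [h4, ← h3]
        simp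
    have hya : y.a ≠ 0 := by
      intro h0
      have h3 := hcon g1 hg1
      unfold dt at h3
      rw [h0, mul_zero, add_zero] at h3
      rcases mul_eq_zero.1 h3 with h4 | h4
      · exact hg1a h4
      · rcases hvy with h5 | h5
        · exact h5 h0
        · exact h5 h4
    have hinj : Function.Injective (fun x : E => ((x : GU K).a, (x : GU K).e, (x : GU K).f)) := by
      intro x z hxz
      simp only [Prod.mk.injEq] at hxz
      obtain ⟨e1, e2, e3⟩ := hxz
      have k1 := hcon x x.2
      have k2 := hcon z z.2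
      unfold dt at k1 k2
      rw [e1] at k1
      have k3 : (x : GU K).c = (z : GU K).c := by
        apply mul_right_cancel₀ hya
        linear_combination k1 - k2
      have k4 : ds (x : GU K) = ds (z : GU K) := by
        apply mul_right_cancel₀ hya
        rw [(hcase x x.2).1, (hcase z z.2).1, e1]
      exact Subtype.ext (ext_ds e1 ((hbE x x.2).trans (hbE z z.2).symm) k3 k4 e2 e3)
    have hcard : Nat.card E ≤ 8 := by
      calc Nat.card E ≤ Nat.card (K × K × K) := Nat.card_le_card_of_injective _ hinj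
        _ = 8 := by rw [Nat.card_prod, Nat.card_prod, hq]
    -- the bound
    have hr1 : Nat.card E * E.relIndex (Qb K) = 2 ^ 5 := by
      rw [card_mul_relIndex hEb, card_Qb, hq]
    have hr2 : (E.relIndex (Qb K)) ^ 2 ≤ (frattini E).index := by
      refine le_trans (Nat.pow_le_pow_left ?_ 2) (hB hE)
      exact Subgroup.relIndex_le_of_le_right hnorm (Subgroup.index_ne_zero_of_finite)
    have hr4 : (frattini E).index ≤ Nat.card E := by
      rw [← hr3]
      exact Nat.le_mul_of_pos_left _ Nat.card_pos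
    nlinarith
  -- an element of the centre outside `Z₂`
  obtain ⟨y, hy, hy2⟩ : ∃ y ∈ Z, y ∉ Z2 K := by
    by_contra hcon
    push Not at hcon
    exact hne (le_antisymm hEb fun x hx => hmem x hx fun z hz => comm_Qb_Z2 hx (hcon z hz))
  have hyb := hbE y (hZE hy)
  have hvy := hv y hy hy2
  obtain ⟨g0, hg0, hg0d⟩ := hone y hy hy2
  have hca : ∀ g ∈ E, (dt g y = 0 ∧ ds g * y.a = ds y * g.a ∧ ds g * y.c = ds y * g.c) ∨
      (dt g y = ds y ∧ ds g = ds y) := fun g hg =>
    cases_of_commute h2 (hbE g hg) hyb (hcomm g hg y hy) hvy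
  have hg0' : dt g0 y = ds y ∧ ds g0 = ds y := (hca g0 hg0).resolve_left fun h => hg0d h.1
  have hδ : ds y ≠ 0 := by rw [← hg0'.1]; exact hg0d
  -- the elements of `E`
  have hP : ∀ g ∈ E, ds g = 0 ↔ (g.a = 0 ∧ g.c = 0) := by
    intro g hg
    rcases hca g hg with ⟨h3, h4, h5⟩ | ⟨h3, h4⟩
    · constructor
      · intro h6
        rw [h6, zero_mul] at h4 h5
        exact ⟨(mul_eq_zero.1 h4.symm).resolve_left hδ, (mul_eq_zero.1 h5.symm).resolve_left hδ⟩
      · rintro ⟨h6, h7⟩
        rw [h6, mul_zero] at h4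
        rw [h7, mul_zero] at h5
        rcases hvy with h8 | h8
        · exact (mul_eq_zero.1 h4).resolve_right h8
        · exact (mul_eq_zero.1 h5).resolve_right h8
    · constructor
      · intro h6
        exact absurd (h4.symm.trans h6) hδ
      · rintro ⟨h6, h7⟩
        exfalso
        apply hδ
        rw [← h3]
        unfold dt
        rw [h6, h7]
        ring
  have hPc : ∀ x y : GU K, x.b = 0 → y.b = 0 → (ds x = 0 ↔ (x.a = 0 ∧ x.c = 0)) →
      (ds y = 0 ↔ (y.a = 0 ∧ y.c = 0)) → x * y = y * x := by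
    intro x y hx hy h3 h4
    refine (commute_iff h2 hx hy).2 ?_
    unfold dt
    generalize ds x = dx at *
    generalize ds y = dy at *
    generalize x.a = xa at *
    generalize x.c = xc at *
    generalize y.a = ya at *
    generalize y.c = yc at *
    have h11 : (1 : K) + 1 = 0 := by linear_combination h2
    have h111 : (1 : K) ≠ 0 := one_ne_zero
    rcases h01 dx with rfl | rfl <;> rcases h01 dy with rfl | rfl <;> rcases h01 xa with rfl | rfl <;>
      rcases h01 xc with rfl | rfl <;> rcases h01 ya with rfl | rfl <;> rcases h01 yc with rfl | rfl <;>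
      simp [h11] at h3 h4 ⊢
  have hPE : ∀ x : GU K, x.b = 0 → (ds x = 0 ↔ (x.a = 0 ∧ x.c = 0)) → x ∈ E := by
    intro x hx h3
    exact hmem x hx fun z hz => hPc x z hx (hbE z (hZE hz)) h3 (hP z (hZE hz))
  -- `E` is normal
  have key : ∀ s x : GU K, x ∈ E → s * x * s⁻¹ ∈ E := by
    intro s x hx
    have hxb := hbE x hx
    have e0 : (s * x * s⁻¹).b = 0 := by
      simp only [GU.mul_b, GU.inv_b, hxb]; ring
    have e1 : (s * x * s⁻¹).a = x.a := by
      simp only [GU.mul_a, GU.inv_a]; ring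
    have e2 : (s * x * s⁻¹).c = x.c + s.b * x.a := by
      simp only [GU.mul_c, GU.mul_b, GU.inv_a, GU.inv_c, hxb]; ring
    have e3 : ds (s * x * s⁻¹) = ds x := by
      unfold ds
      rw [e1, e2]
      simp only [GU.mul_d, GU.mul_c, GU.mul_b, GU.inv_a, GU.inv_d, hxb]
      linear_combination (s.c * x.a - x.c * s.a - s.a * s.b * x.a + x.a ^ 2 * s.b) * h2
    refine hPE _ e0 ?_
    rw [e1, e2, e3, hP x hx]
    constructor
    · rintro ⟨h3, h4⟩
      exact ⟨h3, by rw [h3, h4]; ring⟩
    · rintro ⟨h3, h4⟩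
      refine ⟨h3, ?_⟩
      rw [h3, mul_zero, add_zero] at h4
      exact h4
  have hnn : normalizerIn ⊤ E = ⊤ := by
    rw [eq_top_iff]
    intro s _
    refine Subgroup.mem_inf.mpr ⟨trivial, Subgroup.mem_normalizer_iff.mpr ?_⟩
    intro y
    constructor
    · intro hy
      exact key s y hy
    · intro hy
      have := key s⁻¹ _ hy
      rwa [show s⁻¹ * (s * y * s⁻¹) * s⁻¹⁻¹ = y by group] at this
  -- the order of `E`
  have hcard : Nat.card E ≤ 16 := by
    have hinj : Function.Injective (fun x : E => ((x : GU K).a, (x : GU K).c, (x : GU K).e, (x : GU K).f)) := by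
      intro x z hxz
      simp only [Prod.mk.injEq] at hxz
      obtain ⟨e1, e2, e3, e4⟩ := hxz
      have k4 : ds (x : GU K) = ds (z : GU K) := by
        have k1 := hP x x.2
        have k2 := hP z z.2
        rw [e1, e2, ← k2] at k1
        rcases h01 (ds (x : GU K)) with h3 | h3 <;> rcases h01 (ds (z : GU K)) with h4 | h4
        · rw [h3, h4]
        · exact absurd (h4.symm.trans (k1.1 h3)) one_ne_zero
        · exact absurd (h3.symm.trans (k1.2 h4)) one_ne_zero
        · rw [h3, h4]
      exact Subtype.ext (ext_ds e1 ((hbE x x.2).trans (hbE z z.2).symm) e2 k4 e3 e4)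
    calc Nat.card E ≤ Nat.card (K × K × K × K) := Nat.card_le_card_of_injective _ hinj
      _ = 16 := by rw [Nat.card_prod, Nat.card_prod, Nat.card_prod, hq]
  -- the contradiction
  have hb := hB hE
  rw [hnn] at hb
  have hr1 : Nat.card E * E.relIndex ⊤ = 64 := by
    rw [card_mul_relIndex le_top, Subgroup.card_top, GU.card_eq, hq]
    norm_num
  have hF : 16 ≤ (frattini E).index := by
    refine le_trans ?_ hb
    nlinarith
  have hF1 : Nat.card (frattini E) = 1 := by
    have h3 : 0 < Nat.card (frattini E) := Nat.card_pos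
    nlinarith
  have hF2 : frattini E = ⊥ := Subgroup.eq_bot_of_card_eq _ hF1
  have hysq : (⟨y, hZE hy⟩ : E) ^ 2 ∈ frattini E := Cfsg.Agent.Lib.FrattiniPGroup.pow_mem_frattini hEp _
  rw [hF2, Subgroup.mem_bot] at hysq
  have h3 : y ^ 2 = 1 := congrArg Subtype.val hysq
  rw [sq_eq h2 hyb] at h3
  have h4 : ds y * y.a = 0 := congrArg GU.e h3
  have h5 : ds y * y.c = 0 := congrArg GU.f h3
  rcases hvy with h6 | h6
  · exact h6 ((mul_eq_zero.1 h4).resolve_left hδ)
  · exact h6 ((mul_eq_zero.1 h5).resolve_left hδ)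

end

end Cfsg.Agent.H839.GT
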